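import Groth.Agent.VBCurve.K979.ClEq
import Groth.Agent.VBCurve.K553.SubDefs2
import Groth.Agent.Ega1.PullFormal
import Groth.Agent.VarietyA.ResMap

/-!
# Linearity of `sec`, germs at `k`-points, lists of coordinates (for S15230)

* `psec_smul`, `psec_add`, `secL : Hom(O, N) →ₗ[k] Hom(O_T, K N [])`;
* `eq_smul_one`: the stalk of the structure module is generated by `1`;
* `exists_sub_mem`: a germ at a `k`-point is a constant modulo the maximal ideal;
* `stalkLin_gsec`: the image of `gsec v` under a map `e` with `sec v ≫ e = c • 1`;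
* `cl_map`: `(cl C n n).map (t ≫ ·) = pts (fun i => t ≫ crd C n i)`.
-/

set_option autoImplicit false
universe u
open CategoryTheory CategoryTheory.Limits AlgebraicGeometry

namespace K118.SecLin

open K553.Sub Groth.Agent.CycB.StalkExact

section Lin

variable {k : Type u} [Field k]

theorem pullback_map_smul {X Y : Scheme.{u}} [X.Over (Spec (CommRingCat.of k))]
    [Y.Over (Spec (CommRingCat.of k))] (f : X ⟶ Y) [f.IsOver (Spec (CommRingCat.of k))] (c : k)
    {M N : Y.Modules} (v : M ⟶ N) :
    (Scheme.Modules.pullback f).map (c • v) = c • (Scheme.Modules.pullback f).map v := by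
  rw [KLin.smul_def, Functor.map_comp, Groth.Agent.Ega1.PullFormal.pullback_smulMod]
  rfl

theorem unitPush_smul {X Y : Scheme.{u}} [X.Over (Spec (CommRingCat.of k))]
    [Y.Over (Spec (CommRingCat.of k))] (f : X ⟶ Y) [f.IsOver (Spec (CommRingCat.of k))] (c : k)
    {F : X.Modules} (φ : Coh.structureModule X ⟶ F) :
    ClSub.unitToPush f ≫ (Coh.push f).map (c • φ) = c • (ClSub.unitToPush f ≫ (Coh.push f).map φ) := by
  have h : (Coh.push f).map (c • φ) = c • (Coh.push f).map φ :=
    (Scheme.Modules.pushforward f).map_smul _ _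
  rw [h, Linear.comp_smul]

theorem unitPush_add {X Y : Scheme.{u}} (f : X ⟶ Y) {F : X.Modules} (φ ψ : Coh.structureModule X ⟶ F) :
    ClSub.unitToPush f ≫ (Coh.push f).map (φ + ψ) =
      ClSub.unitToPush f ≫ (Coh.push f).map φ + ClSub.unitToPush f ≫ (Coh.push f).map ψ := by
  rw [Functor.map_add, Preadditive.comp_add]

variable {C T : Over (Spec (CommRingCat.of k))} {N : C.left.Modules}

theorem psec_smul (y : T ⟶ C) (c : k) (v : Coh.structureModule C.left ⟶ N) :
    psec y (c • v) = c • psec y v := by
  unfold psec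
  rw [pullback_map_smul, Linear.comp_smul]

theorem psec_add (y : T ⟶ C) (v w : Coh.structureModule C.left ⟶ N) :
    psec y (v + w) = psec y v + psec y w := by
  unfold psec
  rw [Functor.map_add, Preadditive.comp_add]

theorem sec_smul (c : k) (v : Coh.structureModule C.left ⟶ N) :
    sec (T := T) (c • v) = c • sec v := by
  have h := unitPush_smul (pr C T).left c (psec (qr C T) v)
  rw [← psec_smul] at h
  exact h

theorem sec_add (v w : Coh.structureModule C.left ⟶ N) :
    sec (T := T) (v + w) = sec v + sec w := by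
  have h := unitPush_add (pr C T).left (psec (qr C T) v) (psec (qr C T) w)
  rw [← psec_add] at h
  exact h

/-- `sec` as a linear map. -/
noncomputable def secL (T : Over (Spec (CommRingCat.of k))) (N : C.left.Modules) :
    (Coh.structureModule C.left ⟶ N) →ₗ[k] (Coh.structureModule T.left ⟶ K N ([] : List (T ⟶ C))) where
  toFun v := sec v
  map_add' := sec_add
  map_smul' := sec_smul

@[simp] theorem secL_apply (v : Coh.structureModule C.left ⟶ N) : secL T N v = sec v := rfl

end Lin

section Stalk

variable {X : Scheme.{u}}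

/-- the germ of `1` in the structure module -/
noncomputable def gone (x : X) : (Coh.structureModule X).presheaf.stalk x :=
  (Coh.structureModule X).presheaf.germ ⊤ x trivial (1 : Γ(X, ⊤))

theorem gone_eq (x : X) {U : X.Opens} (hxU : x ∈ U) :
    (Coh.structureModule X).presheaf.germ U x hxU (1 : Γ(X, U)) = gone x := by
  have h := TopCat.Presheaf.germ_res_apply (Coh.structureModule X).presheaf (homOfLE (le_top : U ≤ ⊤)) x hxU
    (1 : Γ(X, ⊤))
  refine Eq.trans (congrArg ((Coh.structureModule X).presheaf.germ U x hxU).hom ?_) h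
  exact (map_one (X.presheaf.map (homOfLE (le_top : U ≤ ⊤)).op).hom).symm

theorem germ_eq_smul (x : X) {U : X.Opens} (hxU : x ∈ U) (m : Γ(X, U)) :
    (Coh.structureModule X).presheaf.germ U x hxU m = X.presheaf.germ U x hxU m • gone x := by
  rw [← gone_eq x hxU]
  refine Eq.trans (congrArg ((Coh.structureModule X).presheaf.germ U x hxU).hom ?_)
    (germ_smul (M := Coh.structureModule X) x hxU m (1 : Γ(X, U)))
  exact (mul_one m).symm

theorem eq_smul_one (x : X) (y : (Coh.structureModule X).presheaf.stalk x) :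
    ∃ r : X.presheaf.stalk x, y = r • gone x := by
  obtain ⟨U, hxU, m, rfl⟩ := (Coh.structureModule X).presheaf.exists_germ_eq y
  exact ⟨X.presheaf.germ U x hxU (m : Γ(X, U)), germ_eq_smul x hxU _⟩

end Stalk

section Point

variable {k : Type u} [Field k]

theorem atp_comp {T U : Over (Spec (CommRingCat.of k))} (x : pt (Spec (CommRingCat.of k)) ⟶ T) (f : T ⟶ U) :
    atp (x ≫ f) = f.left (atp x) := by
  unfold atp
  rw [Over.comp_left]
  exact Scheme.Hom.comp_apply _ _ _

theorem resMap_surjective {T : Over (Spec (CommRingCat.of k))} (t : pt (Spec (CommRingCat.of k)) ⟶ T) :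
    Function.Surjective (Curv2.resMap k T.left (atp t)) := by
  obtain ⟨ψ, h1⟩ : ∃ ψ : T.left.residueField (atp t) ⟶ CommRingCat.of k,
      Spec.map ψ ≫ T.left.fromSpecResidueField (atp t) = t.left :=
    ⟨(Scheme.SpecToEquivOfField k T.left t.left).2, (Scheme.SpecToEquivOfField k T.left).left_inv t.left⟩
  have h2 : CommRingCat.ofHom (Curv2.resMap k T.left (atp t)) ≫ ψ = 𝟙 _ := by
    apply Spec.map_injective
    rw [Spec.map_comp, Groth.Agent.VarietyA.ResMap.specMap_resMap, ← Category.assoc, h1, Spec.map_id]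
    exact Over.w t
  have h3 : ∀ c : k, ψ.hom (Curv2.resMap k T.left (atp t) c) = c := fun c => congr($h2 c)
  intro a
  refine ⟨ψ.hom a, ?_⟩
  apply ψ.hom.injective
  rw [h3]

/-- A germ at a `k`-point is a constant modulo the maximal ideal. -/
theorem exists_sub_mem {T : Over (Spec (CommRingCat.of k))} (t : pt (Spec (CommRingCat.of k)) ⟶ T)
    (a : T.left.presheaf.stalk (atp t)) :
    ∃ c : k, a - Curv2.stalkMap k T.left (atp t) c ∈
      IsLocalRing.maximalIdeal (T.left.presheaf.stalk (atp t)) := by
  obtain ⟨c, hc⟩ := resMap_surjective t ((T.left.residue (atp t)) a)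
  refine ⟨c, ?_⟩
  rw [← IsLocalRing.residue_eq_zero_iff, map_sub, sub_eq_zero]
  exact hc.symm

/-- the value of `e` on `gsec v` -/
theorem stalkLin_gsec {C T : Over (Spec (CommRingCat.of k))} {N : C.left.Modules}
    (e : K N ([] : List (T ⟶ C)) ⟶ Coh.structureModule T.left) (v : Coh.structureModule C.left ⟶ N) (c : k)
    (h : sec v ≫ e = c • 𝟙 (Coh.structureModule T.left)) (t : T.left) :
    stalkLin e t (gsec t v) = Curv2.stalkMap k T.left t c • gone t := by
  have h1 : (sec v ≫ e).app ⊤ (1 : Γ(T.left, ⊤)) =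
      (c • 𝟙 (Coh.structureModule T.left)).app ⊤ (1 : Γ(T.left, ⊤)) := by rw [h]
  have h2 := KLin.smul_app_apply c (𝟙 (Coh.structureModule T.left)) ⊤ (1 : Γ(T.left, ⊤))
  have h3 : T.left.presheaf.map (homOfLE (le_top : (⊤ : T.left.Opens) ≤ ⊤)).op
      (Coh.toGlobal (T.left ↘ Spec (CommRingCat.of k)) c) =
      Coh.toGlobal (T.left ↘ Spec (CommRingCat.of k)) c := by
    have h4 : (homOfLE (le_top : (⊤ : T.left.Opens) ≤ ⊤)).op = 𝟙 _ := rfl
    rw [h4, CategoryTheory.Functor.map_id]
    rfl
  unfold gsec
  refine (stalkLin_germ e (U := ⊤) t trivial _).trans ?_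
  refine (congrArg ((Coh.structureModule T.left).presheaf.germ ⊤ t trivial).hom (h1.trans h2)).trans ?_
  refine (germ_smul (M := Coh.structureModule T.left) (U := ⊤) t trivial _ _).trans ?_
  rw [h3]
  rfl

end Point

section Lists

variable {S : Scheme.{u}} {C : Over S}

theorem cl_map {U : Over S} (n : ℕ) (t : U ⟶ Pw C n) (i : ℕ) (hi : i ≤ n) :
    (cl C n i).map (fun z => t ≫ z) =
      (List.ofFn fun j : Fin i => t ≫ crd C n (j.castLE hi)).reverse := by
  induction i with
  | zero => simp [cl]
  | succ i ih =>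
    have h : i < n := hi
    rw [cl, dif_pos h, List.map_cons, ih h.le, List.ofFn_succ', List.concat_eq_append, List.reverse_append]
    rfl

theorem cl_length (n : ℕ) (i : ℕ) (hi : i ≤ n) : (cl C n i).length = i := by
  have h := congrArg List.length (cl_map n (𝟙 (Pw C n)) i hi)
  simpa using h

theorem cl_map_self (n : ℕ) (t : pt S ⟶ Pw C n) :
    (cl C n n).map (fun z => t ≫ z) = pts fun i => t ≫ crd C n i := by
  rw [cl_map n t n le_rfl]
  rfl

end Lists

end K118.SecLin
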