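import Groth.Agent.VBCurve.K118.SubLocGen
import Groth.Agent.VBCurve.K405.SubFree
import Groth.Agent.VBCurve.K226.Pow
import Groth.Agent.VBCurve.K427.SubVan
import Groth.Agent.VBCurve.K924.Fibre

/-!
# SUB-LOC1 (S15230): the functional `ε` on `K N []` and its values on the fibres of `K N l`

`K553.Sub.exists_epsT`, `K553.Sub.loc_surj`, `K553.Sub.loc_le`.
-/

set_option autoImplicit false
universe u
open CategoryTheory CategoryTheory.Limits AlgebraicGeometry

namespace K553.Sub

open K118.SubLoc K118.SecLin Groth.Agent.CycB.StalkExact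

variable {k : Type u} [Field k] [IsAlgClosed k] (C : Over (Spec (CommRingCat.of k)))
  [IsIntegral C.left] [IsProper C.hom] [Smooth C.hom] (hdim : topologicalKrullDim C.left = 1)
  {g : ℕ} (hgen : Curv2.genus k C.left = g) {n : ℕ} (hgn : g ≤ n)
  {N : C.left.Modules} (hN : PicF.IsInvertible N) (hd : Curv2.deg k C.left N 1 = 2 * (n : ℤ) - 1 + g)
  (ε : (Coh.structureModule C.left ⟶ N) →ₗ[k] k)

include hN in
/-- the functional `ε` on `K N [] = Hom(O, N) ⊗ O_T` -/
theorem exists_epsT {T : Over (Spec (CommRingCat.of k))} [LocallyOfFiniteType T.hom]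
    [Module.Finite k (Coh.structureModule C.left ⟶ N)] :
    ∃ e : K N ([] : List (T ⟶ C)) ⟶ Coh.structureModule T.left,
      ∀ v : Coh.structureModule C.left ⟶ N, sec v ≫ e = (ε v) • 𝟙 (Coh.structureModule T.left) := by
  let b := Module.finBasis k (Coh.structureModule C.left ⟶ N)
  exact exists_eps b (isIso_desc_sec C hN b) ε

include hdim hgen hgn hN hd in
/-- at `t` the image of `K N (cl C n n) ⟶ O` -/
theorem loc_surj (e : K N ([] : List (Pw C n ⟶ C)) ⟶ Coh.structureModule (Pw C n).left)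
    (he : ∀ v : Coh.structureModule C.left ⟶ N, sec v ≫ e = (ε v) • 𝟙 (Coh.structureModule (Pw C n).left))
    (t : pt (Spec (CommRingCat.of k)) ⟶ Pw C n)
    (h : ¬ IsZ ε (pts fun i => t ≫ crd C n i)) :
    Function.Surjective (Groth.Agent.CycB.StalkExact.stalkLin (Kι N (cl C n n) ≫ e) (atp t)) := by
  have := isIntegral_Pw C hdim n
  have := (smooth_Pw C n).2
  have := (finrank_vanSub C hdim hgen N hN []).1
  let b := Module.finBasis k (Coh.structureModule C.left ⟶ N)
  unfold IsZ at h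
  push Not at h
  obtain ⟨v, hv, hεv⟩ := h
  have hl : 2 * (g : ℤ) - 1 ≤ Curv2.deg k C.left N 1 - (cl C n n).length := by
    rw [cl_length n n le_rfl, hd]; omega
  obtain ⟨s, f, hs, hf⟩ := (fibre_K C hdim hgen hN b (cl C n n) hl t (b.repr v)).2 (by
    rw [cl_map_self, b.sum_repr]; exact hv)
  have h1 : stalkLin (Kι N (cl C n n) ≫ e) (atp t) s =
      (∑ i, f i * Curv2.stalkMap k (Pw C n).left (atp t) (ε (b i))) • gone (atp t) := by
    rw [stalkLin_comp, LinearMap.comp_apply, hs, stalkLin_comb b he]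
  have h2 := comb_sub_mem (T := Pw C n) b ε (atp t) f (b.repr v) hf
  rw [b.sum_repr] at h2
  have h3 : IsUnit (∑ i, f i * Curv2.stalkMap k (Pw C n).left (atp t) (ε (b i))) := by
    by_contra h4
    have h5 : Curv2.stalkMap k (Pw C n).left (atp t) (ε v) ∈
        IsLocalRing.maximalIdeal ((Pw C n).left.presheaf.stalk (atp t)) := by
      have h6 := Ideal.sub_mem _ ((IsLocalRing.mem_maximalIdeal _).2 h4) h2
      simpa using h6
    rw [IsLocalRing.mem_maximalIdeal, mem_nonunits_iff] at h5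
    exact h5 ((isUnit_iff_ne_zero.2 hεv).map _)
  obtain ⟨u, hu⟩ := h3
  intro y
  obtain ⟨r, rfl⟩ := eq_smul_one (atp t) y
  refine ⟨(r * ↑u⁻¹) • s, ?_⟩
  rw [map_smul, h1, ← hu, smul_smul, mul_assoc, Units.inv_mul, mul_one]

include hdim hgen hgn hN hd in
theorem loc_le (e : K N ([] : List (Pw C n ⟶ C)) ⟶ Coh.structureModule (Pw C n).left)
    (he : ∀ v : Coh.structureModule C.left ⟶ N, sec v ≫ e = (ε v) • 𝟙 (Coh.structureModule (Pw C n).left))
    (t : pt (Spec (CommRingCat.of k)) ⟶ Pw C n)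
    (h : IsZ ε (pts fun i => t ≫ crd C n i)) :
    LinearMap.range (Groth.Agent.CycB.StalkExact.stalkLin (Kι N (cl C n n) ≫ e) (atp t)) ≤
      IsLocalRing.maximalIdeal ((Pw C n).left.presheaf.stalk (atp t)) •
        (⊤ : Submodule ((Pw C n).left.presheaf.stalk (atp t))
          ((Coh.structureModule (Pw C n).left).presheaf.stalk (atp t))) := by
  have := isIntegral_Pw C hdim n
  have := (smooth_Pw C n).2
  have := (finrank_vanSub C hdim hgen N hN []).1
  let b := Module.finBasis k (Coh.structureModule C.left ⟶ N)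
  have hl : 2 * (g : ℤ) - 1 ≤ Curv2.deg k C.left N 1 - (cl C n n).length := by
    rw [cl_length n n le_rfl, hd]; omega
  rintro _ ⟨s, rfl⟩
  obtain ⟨f, hf⟩ := exists_gsec b (isIso_desc_sec C hN b) (atp t) (stalkLin (Kι N (cl C n n)) (atp t) s)
  have h1 : ∀ i, ∃ c : k, f i - Curv2.stalkMap k (Pw C n).left (atp t) c ∈
      IsLocalRing.maximalIdeal ((Pw C n).left.presheaf.stalk (atp t)) := fun i => exists_sub_mem t (f i)
  choose c hc using h1
  have h2 := (fibre_K C hdim hgen hN b (cl C n n) hl t c).1 ⟨s, f, hf, hc⟩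
  rw [cl_map_self] at h2
  have h3 := comb_sub_mem (T := Pw C n) b ε (atp t) f c hc
  rw [h _ h2, map_zero, sub_zero] at h3
  rw [stalkLin_comp, LinearMap.comp_apply, hf, stalkLin_comb b he]
  exact Submodule.smul_mem_smul h3 trivial

end K553.Sub
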