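import Groth.Agent.VBCurve.K118.SecLin
import Groth.Agent.CycB.LFCoprod2

/-!
# The functional `ε` on `K N []`: general facts (for SUB-LOC1, S15230)

* `exists_eps`: the functional, from the isomorphism `⊕ O ≅ K N []`;
* `exists_gsec`: the germs of the sections `1 ⊗ b_i` generate;
* `stalkLin_comb`, `comb_sub_mem`: the value of `e` on `∑ f_i gsec (b_i)`.
-/

set_option autoImplicit false
universe u
open CategoryTheory CategoryTheory.Limits AlgebraicGeometry

namespace K118.SubLoc

open K553.Sub K118.SecLin Groth.Agent.CycB.StalkExact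

variable {k : Type u} [Field k]

section gen

variable {C T : Over (Spec (CommRingCat.of k))} {N : C.left.Modules}

/-- the functional, from the isomorphism `⊕ O ≅ K N []` -/
theorem exists_eps {m : ℕ} (b : Module.Basis (Fin m) k (Coh.structureModule C.left ⟶ N))
    (hb : IsIso (Sigma.desc fun i : Fin m => sec (T := T) (b i)))
    (ε : (Coh.structureModule C.left ⟶ N) →ₗ[k] k) :
    ∃ e : K N ([] : List (T ⟶ C)) ⟶ Coh.structureModule T.left,
      ∀ v : Coh.structureModule C.left ⟶ N, sec v ≫ e = (ε v) • 𝟙 (Coh.structureModule T.left) := by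
  refine ⟨inv (Sigma.desc fun i : Fin m => sec (T := T) (b i)) ≫
    Sigma.desc fun i : Fin m => (ε (b i)) • 𝟙 (Coh.structureModule T.left), fun v => ?_⟩
  have h1 : ∀ i, sec (T := T) (b i) ≫ inv (Sigma.desc fun i : Fin m => sec (T := T) (b i)) =
      Sigma.ι (fun _ : Fin m => Coh.structureModule T.left) i := by
    intro i
    rw [IsIso.comp_inv_eq]
    exact (Sigma.ι_desc (fun i : Fin m => sec (T := T) (b i)) i).symm
  have h2 : ∀ i, sec (T := T) (b i) ≫ (inv (Sigma.desc fun i : Fin m => sec (T := T) (b i)) ≫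
      Sigma.desc fun i : Fin m => (ε (b i)) • 𝟙 (Coh.structureModule T.left)) =
      (ε (b i)) • 𝟙 (Coh.structureModule T.left) := by
    intro i
    rw [← Category.assoc, h1, Sigma.ι_desc]
  have h3 : sec (T := T) v = ∑ i, b.repr v i • sec (T := T) (b i) := by
    rw [← secL_apply, ← b.sum_repr v, map_sum]
    simp
  rw [h3, Preadditive.sum_comp]
  simp only [Linear.smul_comp, h2, smul_smul]
  rw [← Finset.sum_smul]
  congr 1
  conv_rhs => rw [← b.sum_repr v, map_sum]
  simp

/-- the germs of the sections `1 ⊗ b_i` generate -/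
theorem exists_gsec {m : ℕ} (b : Module.Basis (Fin m) k (Coh.structureModule C.left ⟶ N))
    (hb : IsIso (Sigma.desc fun i : Fin m => sec (T := T) (b i))) (t : T.left)
    (y : (K N ([] : List (T ⟶ C))).presheaf.stalk t) :
    ∃ f : Fin m → T.left.presheaf.stalk t, y = ∑ i, f i • gsec t (b i) := by
  classical
  let φ := Sigma.desc fun i : Fin m => sec (T := T) (b i)
  let π : ∀ i : Fin m, (∐ fun _ : Fin m => Coh.structureModule T.left) ⟶ Coh.structureModule T.left :=
    fun i => Sigma.desc fun j => if j = i then 𝟙 _ else 0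
  have h1 : (∑ i, π i ≫ Sigma.ι (fun _ : Fin m => Coh.structureModule T.left) i) = 𝟙 _ := by
    refine Sigma.hom_ext _ _ fun j => ?_
    rw [Preadditive.comp_sum, Finset.sum_eq_single j]
    · rw [← Category.assoc]
      simp [π]
    · intro i _ hij
      rw [← Category.assoc]
      simp [π, Ne.symm hij]
    · intro h
      exact absurd (Finset.mem_univ j) h
  have h2 : (∑ i, (inv φ ≫ π i) ≫ sec (T := T) (b i)) = 𝟙 _ := by
    have h3 : ∀ i, (inv φ ≫ π i) ≫ sec (T := T) (b i) =
        inv φ ≫ (π i ≫ Sigma.ι (fun _ : Fin m => Coh.structureModule T.left) i) ≫ φ := by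
      intro i
      simp only [Category.assoc, φ, Sigma.ι_desc]
    simp only [h3]
    rw [← Preadditive.comp_sum, ← Preadditive.sum_comp, h1, Category.id_comp, IsIso.inv_hom_id]
  have h4 : ∀ i, ∃ r : T.left.presheaf.stalk t, stalkLin (inv φ ≫ π i) t y = r • gone t :=
    fun i => eq_smul_one t _
  choose f hf using h4
  refine ⟨f, ?_⟩
  have h5 : ∀ i, stalkLin (sec (T := T) (b i)) t (gone t) = gsec t (b i) :=
    fun i => stalkLin_germ (sec (T := T) (b i)) (U := ⊤) t trivial _
  have h6 : y = stalkLin (∑ i, (inv φ ≫ π i) ≫ sec (T := T) (b i)) t y := by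
    rw [h2, stalkLin_id]; rfl
  rw [Groth.Agent.CycB.LFCoprod2.stalkLin_sum, LinearMap.sum_apply] at h6
  refine h6.trans (Finset.sum_congr rfl fun i _ => ?_)
  rw [stalkLin_comp, LinearMap.comp_apply, hf, map_smul, h5]

end gen

section val

variable {C T : Over (Spec (CommRingCat.of k))} {N : C.left.Modules}

/-- the value of `e` on a combination of the generators -/
theorem stalkLin_comb {m : ℕ} (b : Fin m → (Coh.structureModule C.left ⟶ N))
    {ε : (Coh.structureModule C.left ⟶ N) →ₗ[k] k}
    {e : K N ([] : List (T ⟶ C)) ⟶ Coh.structureModule T.left}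
    (he : ∀ v : Coh.structureModule C.left ⟶ N, sec v ≫ e = (ε v) • 𝟙 (Coh.structureModule T.left))
    (t : T.left) (f : Fin m → T.left.presheaf.stalk t) :
    stalkLin e t (∑ i, f i • gsec t (b i)) =
      (∑ i, f i * Curv2.stalkMap k T.left t (ε (b i))) • gone t := by
  rw [map_sum, Finset.sum_smul]
  refine Finset.sum_congr rfl fun i _ => ?_
  rw [map_smul, stalkLin_gsec e (b i) _ (he _), smul_smul]

theorem comb_sub_mem {m : ℕ} (b : Fin m → (Coh.structureModule C.left ⟶ N))
    (ε : (Coh.structureModule C.left ⟶ N) →ₗ[k] k) (t : T.left) (f : Fin m → T.left.presheaf.stalk t)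
    (c : Fin m → k)
    (hf : ∀ i, f i - Curv2.stalkMap k T.left t (c i) ∈ IsLocalRing.maximalIdeal (T.left.presheaf.stalk t)) :
    (∑ i, f i * Curv2.stalkMap k T.left t (ε (b i))) - Curv2.stalkMap k T.left t (ε (∑ i, c i • b i)) ∈
      IsLocalRing.maximalIdeal (T.left.presheaf.stalk t) := by
  rw [map_sum, map_sum, ← Finset.sum_sub_distrib]
  refine Ideal.sum_mem _ fun i _ => ?_
  rw [map_smul, smul_eq_mul, map_mul, ← sub_mul]
  exact Ideal.mul_mem_right _ _ (hf i)

end val

end K118.SubLoc
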